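import Cfsg.Agent.Lib.CosetEnum.Pres
import Cfsg.Agent.Lib.ON.TC.D0
import Cfsg.Agent.Lib.ON.TC.D1
import Cfsg.Agent.Lib.ON.TC.D2
set_option autoImplicit false
set_option maxRecDepth 100000
namespace H18.ONTC
open H54 (Tr force band)
open H18.TC
noncomputable def T : Tr := (.node (nat_lit 8442) (.node (nat_lit 4220) (.node (nat_lit 2109) (.node (nat_lit 1054) (.node (nat_lit 526) (.node (nat_lit 262) (.node (nat_lit 130) (.node (nat_lit 64) T_255 T_254) (.node (nat_lit 196) T_253 T_252)) (.node (nat_lit 394) (.node (nat_lit 328) T_251 T_250) (.node (nat_lit 460) T_249 T_248))) (.node (nat_lit 790) (.node (nat_lit 658) (.node (nat_lit 592) T_247 T_246) (.node (nat_lit 724) T_245 T_244)) (.node (nat_lit 922) (.node (nat_lit 856) T_243 T_242) (.node (nat_lit 988) T_241 T_240)))) (.node (nat_lit 1581) (.node (nat_lit 1317) (.node (nat_lit 1185) (.node (nat_lit 1119) T_239 T_238) (.node (nat_lit 1251) T_237 T_236)) (.node (nat_lit 1449)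 (.node (nat_lit 1383) T_235 T_234) (.node (nat_lit 1515) T_233 T_232))) (.node (nat_lit 1845) (.node (nat_lit 1713) (.node (nat_lit 1647) T_231 T_230) (.node (nat_lit 1779) T_229 T_228)) (.node (nat_lit 1977) (.node (nat_lit 1911) T_227 T_226) (.node (nat_lit 2043) T_225 T_224))))) (.node (nat_lit 3164) (.node (nat_lit 2636) (.node (nat_lit 2372) (.node (nat_lit 2240) (.node (nat_lit 2174) T_223 T_222) (.node (nat_lit 2306) T_221 T_220)) (.node (nat_lit 2504) (.node (nat_lit 2438) T_219 T_218) (.node (nat_lit 2570) T_217 T_216))) (.node (nat_lit 2900) (.node (nat_lit 2768) (.node (nat_lit 2702) T_215 T_214) (.node (nat_lit 2834) T_213 T_212)) (.node (nat_lit 3032) (.node (nat_lit 2966) T_211 T_210) (.node (nat_lit 3098) T_209 T_208)))) (.node (nat_lit 3692) (.node (nat_lit 3428) (.node (nat_lit 3296) (.node (nat_lit 3230) T_207 T_206) (.node (nat_lit 3362) T_205 T_204)) (.node (nat_lit 3560) (.node (nat_lit 3494) T_203 T_202) (.node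 (nat_lit 3626) T_201 T_200))) (.node (nat_lit 3956) (.node (nat_lit 3824) (.node (nat_lit 3758) T_199 T_198) (.node (nat_lit 3890) T_197 T_196)) (.node (nat_lit 4088) (.node (nat_lit 4022) T_195 T_194) (.node (nat_lit 4154) T_193 T_192)))))) (.node (nat_lit 6331) (.node (nat_lit 5275) (.node (nat_lit 4747) (.node (nat_lit 4483) (.node (nat_lit 4351) (.node (nat_lit 4285) T_191 T_190) (.node (nat_lit 4417) T_189 T_188)) (.node (nat_lit 4615) (.node (nat_lit 4549) T_187 T_186) (.node (nat_lit 4681) T_185 T_184))) (.node (nat_lit 5011) (.node (nat_lit 4879) (.node (nat_lit 4813) T_183 T_182) (.node (nat_lit 4945) T_181 T_180)) (.node (nat_lit 5143) (.node (nat_lit 5077) T_179 T_178) (.node (nat_lit 5209) T_177 T_176)))) (.node (nat_lit 5803) (.node (nat_lit 5539) (.node (nat_lit 5407) (.node (nat_lit 5341) T_175 T_174) (.node (nat_lit 5473) T_173 T_172)) (.node (nat_lit 5671) (.node (nat_lit 5605) T_171 T_170) (.node (nat_lit 5737)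 T_169 T_168))) (.node (nat_lit 6067) (.node (nat_lit 5935) (.node (nat_lit 5869) T_167 T_166) (.node (nat_lit 6001) T_165 T_164)) (.node (nat_lit 6199) (.node (nat_lit 6133) T_163 T_162) (.node (nat_lit 6265) T_161 T_160))))) (.node (nat_lit 7386) (.node (nat_lit 6858) (.node (nat_lit 6594) (.node (nat_lit 6462) (.node (nat_lit 6396) T_159 T_158) (.node (nat_lit 6528) T_157 T_156)) (.node (nat_lit 6726) (.node (nat_lit 6660) T_155 T_154) (.node (nat_lit 6792) T_153 T_152))) (.node (nat_lit 7122) (.node (nat_lit 6990) (.node (nat_lit 6924) T_151 T_150) (.node (nat_lit 7056) T_149 T_148)) (.node (nat_lit 7254) (.node (nat_lit 7188) T_147 T_146) (.node (nat_lit 7320) T_145 T_144)))) (.node (nat_lit 7914) (.node (nat_lit 7650) (.node (nat_lit 7518) (.node (nat_lit 7452) T_143 T_142) (.node (nat_lit 7584) T_141 T_140)) (.node (nat_lit 7782) (.node (nat_lit 7716) T_139 T_138) (.node (nat_lit 7848) T_137 T_136))) (.node (nat_lit 8178) (.node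 (nat_lit 8046) (.node (nat_lit 7980) T_135 T_134) (.node (nat_lit 8112) T_133 T_132)) (.node (nat_lit 8310) (.node (nat_lit 8244) T_131 T_130) (.node (nat_lit 8376) T_129 T_128))))))) (.node (nat_lit 12663) (.node (nat_lit 10552) (.node (nat_lit 9497) (.node (nat_lit 8969) (.node (nat_lit 8705) (.node (nat_lit 8573) (.node (nat_lit 8507) T_127 T_126) (.node (nat_lit 8639) T_125 T_124)) (.node (nat_lit 8837) (.node (nat_lit 8771) T_123 T_122) (.node (nat_lit 8903) T_121 T_120))) (.node (nat_lit 9233) (.node (nat_lit 9101) (.node (nat_lit 9035) T_119 T_118) (.node (nat_lit 9167) T_117 T_116)) (.node (nat_lit 9365) (.node (nat_lit 9299) T_115 T_114) (.node (nat_lit 9431) T_113 T_112)))) (.node (nat_lit 10024) (.node (nat_lit 9760) (.node (nat_lit 9628) (.node (nat_lit 9562) T_111 T_110) (.node (nat_lit 9694) T_109 T_108)) (.node (nat_lit 9892) (.node (nat_lit 9826) T_107 T_106) (.node (nat_lit 9958) T_105 T_104))) (.node (nat_lit 10288)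 (.node (nat_lit 10156) (.node (nat_lit 10090) T_103 T_102) (.node (nat_lit 10222) T_101 T_100)) (.node (nat_lit 10420) (.node (nat_lit 10354) T_99 T_98) (.node (nat_lit 10486) T_97 T_96))))) (.node (nat_lit 11607) (.node (nat_lit 11079) (.node (nat_lit 10815) (.node (nat_lit 10683) (.node (nat_lit 10617) T_95 T_94) (.node (nat_lit 10749) T_93 T_92)) (.node (nat_lit 10947) (.node (nat_lit 10881) T_91 T_90) (.node (nat_lit 11013) T_89 T_88))) (.node (nat_lit 11343) (.node (nat_lit 11211) (.node (nat_lit 11145) T_87 T_86) (.node (nat_lit 11277) T_85 T_84)) (.node (nat_lit 11475) (.node (nat_lit 11409) T_83 T_82) (.node (nat_lit 11541) T_81 T_80)))) (.node (nat_lit 12135) (.node (nat_lit 11871) (.node (nat_lit 11739) (.node (nat_lit 11673) T_79 T_78) (.node (nat_lit 11805) T_77 T_76)) (.node (nat_lit 12003) (.node (nat_lit 11937) T_75 T_74) (.node (nat_lit 12069) T_73 T_72))) (.node (nat_lit 12399) (.node (nat_lit 12267) (.node (nat_lit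 12201) T_71 T_70) (.node (nat_lit 12333) T_69 T_68)) (.node (nat_lit 12531) (.node (nat_lit 12465) T_67 T_66) (.node (nat_lit 12597) T_65 T_64)))))) (.node (nat_lit 14774) (.node (nat_lit 13718) (.node (nat_lit 13190) (.node (nat_lit 12926) (.node (nat_lit 12794) (.node (nat_lit 12728) T_63 T_62) (.node (nat_lit 12860) T_61 T_60)) (.node (nat_lit 13058) (.node (nat_lit 12992) T_59 T_58) (.node (nat_lit 13124) T_57 T_56))) (.node (nat_lit 13454) (.node (nat_lit 13322) (.node (nat_lit 13256) T_55 T_54) (.node (nat_lit 13388) T_53 T_52)) (.node (nat_lit 13586) (.node (nat_lit 13520) T_51 T_50) (.node (nat_lit 13652) T_49 T_48)))) (.node (nat_lit 14246) (.node (nat_lit 13982) (.node (nat_lit 13850) (.node (nat_lit 13784) T_47 T_46) (.node (nat_lit 13916) T_45 T_44)) (.node (nat_lit 14114) (.node (nat_lit 14048) T_43 T_42) (.node (nat_lit 14180) T_41 T_40))) (.node (nat_lit 14510) (.node (nat_lit 14378) (.node (nat_lit 14312) T_39 T_38)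 (.node (nat_lit 14444) T_37 T_36)) (.node (nat_lit 14642) (.node (nat_lit 14576) T_35 T_34) (.node (nat_lit 14708) T_33 T_32))))) (.node (nat_lit 15829) (.node (nat_lit 15301) (.node (nat_lit 15037) (.node (nat_lit 14905) (.node (nat_lit 14839) T_31 T_30) (.node (nat_lit 14971) T_29 T_28)) (.node (nat_lit 15169) (.node (nat_lit 15103) T_27 T_26) (.node (nat_lit 15235) T_25 T_24))) (.node (nat_lit 15565) (.node (nat_lit 15433) (.node (nat_lit 15367) T_23 T_22) (.node (nat_lit 15499) T_21 T_20)) (.node (nat_lit 15697) (.node (nat_lit 15631) T_19 T_18) (.node (nat_lit 15763) T_17 T_16)))) (.node (nat_lit 16357) (.node (nat_lit 16093) (.node (nat_lit 15961) (.node (nat_lit 15895) T_15 T_14) (.node (nat_lit 16027) T_13 T_12)) (.node (nat_lit 16225) (.node (nat_lit 16159) T_11 T_10) (.node (nat_lit 16291) T_9 T_8))) (.node (nat_lit 16621) (.node (nat_lit 16489) (.node (nat_lit 16423) T_7 T_6) (.node (nat_lit 16555) T_5 T_4)) (.node (nat_lit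 16753) (.node (nat_lit 16687) T_3 T_2) (.node (nat_lit 16819) T_1 T_0))))))))
noncomputable def J : Tr := (.node (nat_lit 8442) (.node (nat_lit 4220) (.node (nat_lit 2109) (.node (nat_lit 1054) (.node (nat_lit 526) (.node (nat_lit 262) (.node (nat_lit 130) (.node (nat_lit 64) J_255 J_254) (.node (nat_lit 196) J_253 J_252)) (.node (nat_lit 394) (.node (nat_lit 328) J_251 J_250) (.node (nat_lit 460) J_249 J_248))) (.node (nat_lit 790) (.node (nat_lit 658) (.node (nat_lit 592) J_247 J_246) (.node (nat_lit 724) J_245 J_244)) (.node (nat_lit 922) (.node (nat_lit 856) J_243 J_242) (.node (nat_lit 988) J_241 J_240)))) (.node (nat_lit 1581) (.node (nat_lit 1317) (.node (nat_lit 1185) (.node (nat_lit 1119) J_239 J_238) (.node (nat_lit 1251) J_237 J_236)) (.node (nat_lit 1449) (.node (nat_lit 1383) J_235 J_234) (.node (nat_lit 1515) J_233 J_232))) (.node (nat_lit 1845) (.node (nat_lit 1713) (.node (nat_lit 1647) J_231 J_230) (.node (nat_lit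 1779) J_229 J_228)) (.node (nat_lit 1977) (.node (nat_lit 1911) J_227 J_226) (.node (nat_lit 2043) J_225 J_224))))) (.node (nat_lit 3164) (.node (nat_lit 2636) (.node (nat_lit 2372) (.node (nat_lit 2240) (.node (nat_lit 2174) J_223 J_222) (.node (nat_lit 2306) J_221 J_220)) (.node (nat_lit 2504) (.node (nat_lit 2438) J_219 J_218) (.node (nat_lit 2570) J_217 J_216))) (.node (nat_lit 2900) (.node (nat_lit 2768) (.node (nat_lit 2702) J_215 J_214) (.node (nat_lit 2834) J_213 J_212)) (.node (nat_lit 3032) (.node (nat_lit 2966) J_211 J_210) (.node (nat_lit 3098) J_209 J_208)))) (.node (nat_lit 3692) (.node (nat_lit 3428) (.node (nat_lit 3296) (.node (nat_lit 3230) J_207 J_206) (.node (nat_lit 3362) J_205 J_204)) (.node (nat_lit 3560) (.node (nat_lit 3494) J_203 J_202) (.node (nat_lit 3626) J_201 J_200))) (.node (nat_lit 3956) (.node (nat_lit 3824) (.node (nat_lit 3758) J_199 J_198) (.node (nat_lit 3890) J_197 J_196)) (.node (nat_lit 4088)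 (.node (nat_lit 4022) J_195 J_194) (.node (nat_lit 4154) J_193 J_192)))))) (.node (nat_lit 6331) (.node (nat_lit 5275) (.node (nat_lit 4747) (.node (nat_lit 4483) (.node (nat_lit 4351) (.node (nat_lit 4285) J_191 J_190) (.node (nat_lit 4417) J_189 J_188)) (.node (nat_lit 4615) (.node (nat_lit 4549) J_187 J_186) (.node (nat_lit 4681) J_185 J_184))) (.node (nat_lit 5011) (.node (nat_lit 4879) (.node (nat_lit 4813) J_183 J_182) (.node (nat_lit 4945) J_181 J_180)) (.node (nat_lit 5143) (.node (nat_lit 5077) J_179 J_178) (.node (nat_lit 5209) J_177 J_176)))) (.node (nat_lit 5803) (.node (nat_lit 5539) (.node (nat_lit 5407) (.node (nat_lit 5341) J_175 J_174) (.node (nat_lit 5473) J_173 J_172)) (.node (nat_lit 5671) (.node (nat_lit 5605) J_171 J_170) (.node (nat_lit 5737) J_169 J_168))) (.node (nat_lit 6067) (.node (nat_lit 5935) (.node (nat_lit 5869) J_167 J_166) (.node (nat_lit 6001) J_165 J_164)) (.node (nat_lit 6199) (.node (nat_lit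 6133) J_163 J_162) (.node (nat_lit 6265) J_161 J_160))))) (.node (nat_lit 7386) (.node (nat_lit 6858) (.node (nat_lit 6594) (.node (nat_lit 6462) (.node (nat_lit 6396) J_159 J_158) (.node (nat_lit 6528) J_157 J_156)) (.node (nat_lit 6726) (.node (nat_lit 6660) J_155 J_154) (.node (nat_lit 6792) J_153 J_152))) (.node (nat_lit 7122) (.node (nat_lit 6990) (.node (nat_lit 6924) J_151 J_150) (.node (nat_lit 7056) J_149 J_148)) (.node (nat_lit 7254) (.node (nat_lit 7188) J_147 J_146) (.node (nat_lit 7320) J_145 J_144)))) (.node (nat_lit 7914) (.node (nat_lit 7650) (.node (nat_lit 7518) (.node (nat_lit 7452) J_143 J_142) (.node (nat_lit 7584) J_141 J_140)) (.node (nat_lit 7782) (.node (nat_lit 7716) J_139 J_138) (.node (nat_lit 7848) J_137 J_136))) (.node (nat_lit 8178) (.node (nat_lit 8046) (.node (nat_lit 7980) J_135 J_134) (.node (nat_lit 8112) J_133 J_132)) (.node (nat_lit 8310) (.node (nat_lit 8244) J_131 J_130) (.node (nat_lit 8376)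 J_129 J_128))))))) (.node (nat_lit 12663) (.node (nat_lit 10552) (.node (nat_lit 9497) (.node (nat_lit 8969) (.node (nat_lit 8705) (.node (nat_lit 8573) (.node (nat_lit 8507) J_127 J_126) (.node (nat_lit 8639) J_125 J_124)) (.node (nat_lit 8837) (.node (nat_lit 8771) J_123 J_122) (.node (nat_lit 8903) J_121 J_120))) (.node (nat_lit 9233) (.node (nat_lit 9101) (.node (nat_lit 9035) J_119 J_118) (.node (nat_lit 9167) J_117 J_116)) (.node (nat_lit 9365) (.node (nat_lit 9299) J_115 J_114) (.node (nat_lit 9431) J_113 J_112)))) (.node (nat_lit 10024) (.node (nat_lit 9760) (.node (nat_lit 9628) (.node (nat_lit 9562) J_111 J_110) (.node (nat_lit 9694) J_109 J_108)) (.node (nat_lit 9892) (.node (nat_lit 9826) J_107 J_106) (.node (nat_lit 9958) J_105 J_104))) (.node (nat_lit 10288) (.node (nat_lit 10156) (.node (nat_lit 10090) J_103 J_102) (.node (nat_lit 10222) J_101 J_100)) (.node (nat_lit 10420) (.node (nat_lit 10354) J_99 J_98) (.node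 (nat_lit 10486) J_97 J_96))))) (.node (nat_lit 11607) (.node (nat_lit 11079) (.node (nat_lit 10815) (.node (nat_lit 10683) (.node (nat_lit 10617) J_95 J_94) (.node (nat_lit 10749) J_93 J_92)) (.node (nat_lit 10947) (.node (nat_lit 10881) J_91 J_90) (.node (nat_lit 11013) J_89 J_88))) (.node (nat_lit 11343) (.node (nat_lit 11211) (.node (nat_lit 11145) J_87 J_86) (.node (nat_lit 11277) J_85 J_84)) (.node (nat_lit 11475) (.node (nat_lit 11409) J_83 J_82) (.node (nat_lit 11541) J_81 J_80)))) (.node (nat_lit 12135) (.node (nat_lit 11871) (.node (nat_lit 11739) (.node (nat_lit 11673) J_79 J_78) (.node (nat_lit 11805) J_77 J_76)) (.node (nat_lit 12003) (.node (nat_lit 11937) J_75 J_74) (.node (nat_lit 12069) J_73 J_72))) (.node (nat_lit 12399) (.node (nat_lit 12267) (.node (nat_lit 12201) J_71 J_70) (.node (nat_lit 12333) J_69 J_68)) (.node (nat_lit 12531) (.node (nat_lit 12465) J_67 J_66) (.node (nat_lit 12597) J_65 J_64)))))) (.node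 (nat_lit 14774) (.node (nat_lit 13718) (.node (nat_lit 13190) (.node (nat_lit 12926) (.node (nat_lit 12794) (.node (nat_lit 12728) J_63 J_62) (.node (nat_lit 12860) J_61 J_60)) (.node (nat_lit 13058) (.node (nat_lit 12992) J_59 J_58) (.node (nat_lit 13124) J_57 J_56))) (.node (nat_lit 13454) (.node (nat_lit 13322) (.node (nat_lit 13256) J_55 J_54) (.node (nat_lit 13388) J_53 J_52)) (.node (nat_lit 13586) (.node (nat_lit 13520) J_51 J_50) (.node (nat_lit 13652) J_49 J_48)))) (.node (nat_lit 14246) (.node (nat_lit 13982) (.node (nat_lit 13850) (.node (nat_lit 13784) J_47 J_46) (.node (nat_lit 13916) J_45 J_44)) (.node (nat_lit 14114) (.node (nat_lit 14048) J_43 J_42) (.node (nat_lit 14180) J_41 J_40))) (.node (nat_lit 14510) (.node (nat_lit 14378) (.node (nat_lit 14312) J_39 J_38) (.node (nat_lit 14444) J_37 J_36)) (.node (nat_lit 14642) (.node (nat_lit 14576) J_35 J_34) (.node (nat_lit 14708) J_33 J_32))))) (.node (nat_lit 15829)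 (.node (nat_lit 15301) (.node (nat_lit 15037) (.node (nat_lit 14905) (.node (nat_lit 14839) J_31 J_30) (.node (nat_lit 14971) J_29 J_28)) (.node (nat_lit 15169) (.node (nat_lit 15103) J_27 J_26) (.node (nat_lit 15235) J_25 J_24))) (.node (nat_lit 15565) (.node (nat_lit 15433) (.node (nat_lit 15367) J_23 J_22) (.node (nat_lit 15499) J_21 J_20)) (.node (nat_lit 15697) (.node (nat_lit 15631) J_19 J_18) (.node (nat_lit 15763) J_17 J_16)))) (.node (nat_lit 16357) (.node (nat_lit 16093) (.node (nat_lit 15961) (.node (nat_lit 15895) J_15 J_14) (.node (nat_lit 16027) J_13 J_12)) (.node (nat_lit 16225) (.node (nat_lit 16159) J_11 J_10) (.node (nat_lit 16291) J_9 J_8))) (.node (nat_lit 16621) (.node (nat_lit 16489) (.node (nat_lit 16423) J_7 J_6) (.node (nat_lit 16555) J_5 J_4)) (.node (nat_lit 16753) (.node (nat_lit 16687) J_3 J_2) (.node (nat_lit 16819) J_1 J_0))))))))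
noncomputable def F : Tr := (.node (nat_lit 7675) (.node (nat_lit 3837) (.node (nat_lit 1918) (.node (nat_lit 958) (.node (nat_lit 478) (.node (nat_lit 238) (.node (nat_lit 118) F_127 F_126) (.node (nat_lit 358) F_125 F_124)) (.node (nat_lit 718) (.node (nat_lit 598) F_123 F_122) (.node (nat_lit 838) F_121 F_120))) (.node (nat_lit 1438) (.node (nat_lit 1198) (.node (nat_lit 1078) F_119 F_118) (.node (nat_lit 1318) F_117 F_116)) (.node (nat_lit 1678) (.node (nat_lit 1558) F_115 F_114) (.node (nat_lit 1798) F_113 F_112)))) (.node (nat_lit 2877) (.node (nat_lit 2397) (.node (nat_lit 2157) (.node (nat_lit 2037) F_111 F_110) (.node (nat_lit 2277) F_109 F_108)) (.node (nat_lit 2637) (.node (nat_lit 2517) F_107 F_106) (.node (nat_lit 2757) F_105 F_104))) (.node (nat_lit 3357) (.node (nat_lit 3117) (.node (nat_lit 2997) F_103 F_102) (.node (nat_lit 3237) F_101 F_100)) (.node (nat_lit 3597) (.node (nat_lit 3477) F_99 F_98) (.node (nat_lit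 3717) F_97 F_96))))) (.node (nat_lit 5756) (.node (nat_lit 4796) (.node (nat_lit 4316) (.node (nat_lit 4076) (.node (nat_lit 3956) F_95 F_94) (.node (nat_lit 4196) F_93 F_92)) (.node (nat_lit 4556) (.node (nat_lit 4436) F_91 F_90) (.node (nat_lit 4676) F_89 F_88))) (.node (nat_lit 5276) (.node (nat_lit 5036) (.node (nat_lit 4916) F_87 F_86) (.node (nat_lit 5156) F_85 F_84)) (.node (nat_lit 5516) (.node (nat_lit 5396) F_83 F_82) (.node (nat_lit 5636) F_81 F_80)))) (.node (nat_lit 6715) (.node (nat_lit 6235) (.node (nat_lit 5995) (.node (nat_lit 5875) F_79 F_78) (.node (nat_lit 6115) F_77 F_76)) (.node (nat_lit 6475) (.node (nat_lit 6355) F_75 F_74) (.node (nat_lit 6595) F_73 F_72))) (.node (nat_lit 7195) (.node (nat_lit 6955) (.node (nat_lit 6835) F_71 F_70) (.node (nat_lit 7075) F_69 F_68)) (.node (nat_lit 7435) (.node (nat_lit 7315) F_67 F_66) (.node (nat_lit 7555) F_65 F_64)))))) (.node (nat_lit 11513) (.node (nat_lit 9594) (.node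 (nat_lit 8634) (.node (nat_lit 8154) (.node (nat_lit 7914) (.node (nat_lit 7794) F_63 F_62) (.node (nat_lit 8034) F_61 F_60)) (.node (nat_lit 8394) (.node (nat_lit 8274) F_59 F_58) (.node (nat_lit 8514) F_57 F_56))) (.node (nat_lit 9114) (.node (nat_lit 8874) (.node (nat_lit 8754) F_55 F_54) (.node (nat_lit 8994) F_53 F_52)) (.node (nat_lit 9354) (.node (nat_lit 9234) F_51 F_50) (.node (nat_lit 9474) F_49 F_48)))) (.node (nat_lit 10553) (.node (nat_lit 10073) (.node (nat_lit 9833) (.node (nat_lit 9713) F_47 F_46) (.node (nat_lit 9953) F_45 F_44)) (.node (nat_lit 10313) (.node (nat_lit 10193) F_43 F_42) (.node (nat_lit 10433) F_41 F_40))) (.node (nat_lit 11033) (.node (nat_lit 10793) (.node (nat_lit 10673) F_39 F_38) (.node (nat_lit 10913) F_37 F_36)) (.node (nat_lit 11273) (.node (nat_lit 11153) F_35 F_34) (.node (nat_lit 11393) F_33 F_32))))) (.node (nat_lit 13432) (.node (nat_lit 12472) (.node (nat_lit 11992) (.node (nat_lit 11752)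 (.node (nat_lit 11632) F_31 F_30) (.node (nat_lit 11872) F_29 F_28)) (.node (nat_lit 12232) (.node (nat_lit 12112) F_27 F_26) (.node (nat_lit 12352) F_25 F_24))) (.node (nat_lit 12952) (.node (nat_lit 12712) (.node (nat_lit 12592) F_23 F_22) (.node (nat_lit 12832) F_21 F_20)) (.node (nat_lit 13192) (.node (nat_lit 13072) F_19 F_18) (.node (nat_lit 13312) F_17 F_16)))) (.node (nat_lit 14391) (.node (nat_lit 13911) (.node (nat_lit 13671) (.node (nat_lit 13551) F_15 F_14) (.node (nat_lit 13791) F_13 F_12)) (.node (nat_lit 14151) (.node (nat_lit 14031) F_11 F_10) (.node (nat_lit 14271) F_9 F_8))) (.node (nat_lit 14871) (.node (nat_lit 14631) (.node (nat_lit 14511) F_7 F_6) (.node (nat_lit 14751) F_5 F_4)) (.node (nat_lit 15111) (.node (nat_lit 14991) F_3 F_2) (.node (nat_lit 15231) F_1 F_0)))))))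
noncomputable def row (u : ℕ) : ℕ := Nat.land (Nat.shiftRight (force (Nat.shiftRight u (nat_lit 3)) T.get) (Nat.mul (Nat.land u (nat_lit 7)) (nat_lit 380))) (nat_lit 0xfffffffffffffffffffffffffffffffffffffffffffffffffffffffffffffffffffffffffffffffffffffffffffffff)
noncomputable def jrow (u : ℕ) : ℕ := Nat.land (Nat.shiftRight (force (Nat.shiftRight u (nat_lit 3)) J.get) (Nat.mul (Nat.land u (nat_lit 7)) (nat_lit 297))) (nat_lit 0x1ffffffffffffffffffffffffffffffffffffffffffffffffffffffffffffffffffffffffff)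
noncomputable def fget (k fx : ℕ) : ℕ := F.get (Nat.add k fx)
noncomputable def wt0 : LT := (.node (nat_lit 6) (.node (nat_lit 2) (.node (nat_lit 0) (.leaf 55 5 [nat_lit 228, nat_lit 190, nat_lit 38, nat_lit 190, nat_lit 228, nat_lit 38, nat_lit 190, nat_lit 38, nat_lit 190, nat_lit 228])
(.node (nat_lit 1) (.leaf 47 3 [nat_lit 190, nat_lit 152, nat_lit 190, nat_lit 0, nat_lit 190, nat_lit 0, nat_lit 152, nat_lit 38, nat_lit 190])
(.leaf 49 3 [nat_lit 152, nat_lit 190, nat_lit 152, nat_lit 0, nat_lit 152, nat_lit 0, nat_lit 190, nat_lit 38, nat_lit 152])))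
(.node (nat_lit 4) (.node (nat_lit 3) (.leaf 53 5 [nat_lit 114, nat_lit 152, nat_lit 38, nat_lit 152, nat_lit 114, nat_lit 38, nat_lit 152, nat_lit 38, nat_lit 152, nat_lit 114])
(.leaf 55 8 [nat_lit 190, nat_lit 228, nat_lit 38, nat_lit 190, nat_lit 38, nat_lit 190, nat_lit 228, nat_lit 38, nat_lit 228, nat_lit 190]))
(.node (nat_lit 5) (.leaf 53 8 [nat_lit 152, nat_lit 114, nat_lit 38, nat_lit 152, nat_lit 38, nat_lit 152, nat_lit 114, nat_lit 38, nat_lit 114, nat_lit 152])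
(.leaf 53 0 [nat_lit 152, nat_lit 38, nat_lit 152, nat_lit 114, nat_lit 38, nat_lit 114, nat_lit 152, nat_lit 38, nat_lit 152, nat_lit 114]))))
(.node (nat_lit 12) (.node (nat_lit 8) (.node (nat_lit 7) (.leaf 47 1 [nat_lit 190, nat_lit 38, nat_lit 190, nat_lit 152, nat_lit 190, nat_lit 0, nat_lit 190, nat_lit 0, nat_lit 152])
(.leaf 55 0 [nat_lit 190, nat_lit 38, nat_lit 190, nat_lit 228, nat_lit 38, nat_lit 228, nat_lit 190, nat_lit 38, nat_lit 190, nat_lit 228]))
(.node (nat_lit 10) (.node (nat_lit 9) (.leaf 49 1 [nat_lit 152, nat_lit 38, nat_lit 152, nat_lit 190, nat_lit 152, nat_lit 0, nat_lit 152, nat_lit 0, nat_lit 190])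
(.leaf 53 2 [nat_lit 152, nat_lit 114, nat_lit 38, nat_lit 114, nat_lit 152, nat_lit 38, nat_lit 152, nat_lit 114, nat_lit 38, nat_lit 152]))
(.node (nat_lit 11) (.leaf 55 2 [nat_lit 190, nat_lit 228, nat_lit 38, nat_lit 228, nat_lit 190, nat_lit 38, nat_lit 190, nat_lit 228, nat_lit 38, nat_lit 190])
(.leaf 51 17 [nat_lit 190, nat_lit 152, nat_lit 114, nat_lit 38, nat_lit 190, nat_lit 152, nat_lit 114, nat_lit 38, nat_lit 190, nat_lit 152, nat_lit 114, nat_lit 38, nat_lit 190, nat_lit 152, nat_lit 114, nat_lit 38, nat_lit 190, nat_lit 152, nat_lit 114]))))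
(.leaf 0 0 [])))
noncomputable def wt1 : LT := (.node (nat_lit 0) (.leaf 43 1 [nat_lit 0, nat_lit 266, nat_lit 76])
(.node (nat_lit 2) (.node (nat_lit 1) (.leaf 43 2 [nat_lit 266, nat_lit 76, nat_lit 0])
(.leaf 47 7 [nat_lit 190, nat_lit 0, nat_lit 152, nat_lit 38, nat_lit 190, nat_lit 38, nat_lit 190, nat_lit 152, nat_lit 190]))
(.node (nat_lit 5) (.node (nat_lit 3) (.leaf 47 9 [nat_lit 152, nat_lit 38, nat_lit 190, nat_lit 38, nat_lit 190, nat_lit 152, nat_lit 190, nat_lit 0, nat_lit 190])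
(.node (nat_lit 4) (.leaf 49 7 [nat_lit 152, nat_lit 0, nat_lit 190, nat_lit 38, nat_lit 152, nat_lit 38, nat_lit 152, nat_lit 190, nat_lit 152])
(.leaf 49 9 [nat_lit 190, nat_lit 38, nat_lit 152, nat_lit 38, nat_lit 152, nat_lit 190, nat_lit 152, nat_lit 0, nat_lit 152])))
(.leaf 0 0 []))))
noncomputable def wt2 : LT := (.node (nat_lit 4) (.node (nat_lit 1) (.node (nat_lit 0) (.leaf 7 0 [nat_lit 190, nat_lit 76, nat_lit 190])
(.leaf 5 0 [nat_lit 152, nat_lit 76, nat_lit 152]))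
(.node (nat_lit 2) (.leaf 11 0 [nat_lit 266, nat_lit 76, nat_lit 266])
(.node (nat_lit 3) (.leaf 9 0 [nat_lit 228, nat_lit 76, nat_lit 228])
(.leaf 43 0 [nat_lit 0, nat_lit 0, nat_lit 266]))))
(.node (nat_lit 6) (.node (nat_lit 5) (.leaf 3 0 [nat_lit 114, nat_lit 76, nat_lit 114, nat_lit 76, nat_lit 114])
(.leaf 45 0 [nat_lit 152, nat_lit 190, nat_lit 152, nat_lit 190, nat_lit 152, nat_lit 190, nat_lit 152, nat_lit 190, nat_lit 266]))
(.leaf 0 0 [])))
noncomputable def wt3 : LT := (.node (nat_lit 3) (.node (nat_lit 1) (.node (nat_lit 0) (.leaf 17 0 [nat_lit 190, nat_lit 114, nat_lit 190])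
(.leaf 21 0 [nat_lit 266, nat_lit 114, nat_lit 266]))
(.node (nat_lit 2) (.leaf 19 0 [nat_lit 228, nat_lit 114, nat_lit 228])
(.leaf 3 5 [nat_lit 76, nat_lit 114, nat_lit 76, nat_lit 114, nat_lit 76])))
(.node (nat_lit 8) (.node (nat_lit 4) (.leaf 15 0 [nat_lit 152, nat_lit 114, nat_lit 152, nat_lit 114, nat_lit 152])
(.node (nat_lit 5) (.leaf 53 6 [nat_lit 152, nat_lit 38, nat_lit 152, nat_lit 114, nat_lit 38, nat_lit 152, nat_lit 38, nat_lit 152, nat_lit 114, nat_lit 38])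
(.node (nat_lit 6) (.leaf 53 10 [nat_lit 38, nat_lit 152, nat_lit 38, nat_lit 152, nat_lit 114, nat_lit 38, nat_lit 114, nat_lit 152, nat_lit 38, nat_lit 152])
(.node (nat_lit 7) (.leaf 53 4 [nat_lit 38, nat_lit 114, nat_lit 152, nat_lit 38, nat_lit 152, nat_lit 114, nat_lit 38, nat_lit 152, nat_lit 38, nat_lit 152])
(.leaf 51 0 [nat_lit 38, nat_lit 190, nat_lit 152, nat_lit 114, nat_lit 38, nat_lit 190, nat_lit 152, nat_lit 114, nat_lit 38, nat_lit 190, nat_lit 152, nat_lit 114, nat_lit 38, nat_lit 190, nat_lit 152, nat_lit 114, nat_lit 38, nat_lit 190, nat_lit 152])))))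
(.leaf 0 0 [])))
noncomputable def wt4 : LT := (.node (nat_lit 5) (.node (nat_lit 1) (.node (nat_lit 0) (.leaf 5 3 [nat_lit 76, nat_lit 152, nat_lit 76])
(.leaf 29 0 [nat_lit 266, nat_lit 152, nat_lit 266]))
(.node (nat_lit 2) (.leaf 27 0 [nat_lit 228, nat_lit 152, nat_lit 228])
(.node (nat_lit 3) (.leaf 15 5 [nat_lit 114, nat_lit 152, nat_lit 114, nat_lit 152, nat_lit 114])
(.node (nat_lit 4) (.leaf 45 7 [nat_lit 190, nat_lit 266, nat_lit 76, nat_lit 152, nat_lit 190, nat_lit 152, nat_lit 190, nat_lit 152, nat_lit 190])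
(.leaf 47 0 [nat_lit 38, nat_lit 190, nat_lit 38, nat_lit 190, nat_lit 152, nat_lit 190, nat_lit 0, nat_lit 190, nat_lit 0])))))
(.node (nat_lit 19) (.node (nat_lit 9) (.node (nat_lit 7) (.node (nat_lit 6) (.leaf 45 5 [nat_lit 190, nat_lit 152, nat_lit 190, nat_lit 266, nat_lit 76, nat_lit 152, nat_lit 190, nat_lit 152, nat_lit 190])
(.leaf 49 8 [nat_lit 0, nat_lit 190, nat_lit 38, nat_lit 152, nat_lit 38, nat_lit 152, nat_lit 190, nat_lit 152, nat_lit 0]))
(.node (nat_lit 8) (.leaf 49 6 [nat_lit 0, nat_lit 152, nat_lit 0, nat_lit 190, nat_lit 38, nat_lit 152, nat_lit 38, nat_lit 152, nat_lit 190])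
(.leaf 53 9 [nat_lit 114, nat_lit 38, nat_lit 152, nat_lit 38, nat_lit 152, nat_lit 114, nat_lit 38, nat_lit 114, nat_lit 152, nat_lit 38])))
(.node (nat_lit 12) (.node (nat_lit 10) (.leaf 49 2 [nat_lit 38, nat_lit 152, nat_lit 190, nat_lit 152, nat_lit 0, nat_lit 152, nat_lit 0, nat_lit 190, nat_lit 38])
(.node (nat_lit 11) (.leaf 47 5 [nat_lit 190, nat_lit 0, nat_lit 190, nat_lit 0, nat_lit 152, nat_lit 38, nat_lit 190, nat_lit 38, nat_lit 190])
(.leaf 53 7 [nat_lit 38, nat_lit 152, nat_lit 114, nat_lit 38, nat_lit 152, nat_lit 38, nat_lit 152, nat_lit 114, nat_lit 38, nat_lit 114])))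
(.node (nat_lit 14) (.node (nat_lit 13) (.leaf 51 19 [nat_lit 114, nat_lit 38, nat_lit 190, nat_lit 152, nat_lit 114, nat_lit 38, nat_lit 190, nat_lit 152, nat_lit 114, nat_lit 38, nat_lit 190, nat_lit 152, nat_lit 114, nat_lit 38, nat_lit 190, nat_lit 152, nat_lit 114, nat_lit 38, nat_lit 190])
(.leaf 53 1 [nat_lit 38, nat_lit 152, nat_lit 114, nat_lit 38, nat_lit 114, nat_lit 152, nat_lit 38, nat_lit 152, nat_lit 114, nat_lit 38]))
(.node (nat_lit 16) (.node (nat_lit 15) (.leaf 45 3 [nat_lit 190, nat_lit 152, nat_lit 190, nat_lit 152, nat_lit 190, nat_lit 266, nat_lit 76, nat_lit 152, nat_lit 190])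
(.leaf 45 1 [nat_lit 190, nat_lit 152, nat_lit 190, nat_lit 152, nat_lit 190, nat_lit 152, nat_lit 190, nat_lit 266, nat_lit 76]))
(.node (nat_lit 17) (.leaf 53 3 [nat_lit 114, nat_lit 38, nat_lit 114, nat_lit 152, nat_lit 38, nat_lit 152, nat_lit 114, nat_lit 38, nat_lit 152, nat_lit 38])
(.node (nat_lit 18) (.leaf 49 4 [nat_lit 190, nat_lit 152, nat_lit 0, nat_lit 152, nat_lit 0, nat_lit 190, nat_lit 38, nat_lit 152, nat_lit 38])
(.leaf 25 0 [nat_lit 190, nat_lit 152, nat_lit 190, nat_lit 152, nat_lit 190, nat_lit 152, nat_lit 190, nat_lit 152, nat_lit 190, nat_lit 152, nat_lit 190, nat_lit 152, nat_lit 190, nat_lit 152, nat_lit 190])))))))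
(.leaf 0 0 [])))
noncomputable def wt5 : LT := (.node (nat_lit 5) (.node (nat_lit 1) (.node (nat_lit 0) (.leaf 7 3 [nat_lit 76, nat_lit 190, nat_lit 76])
(.leaf 35 0 [nat_lit 266, nat_lit 190, nat_lit 266]))
(.node (nat_lit 2) (.leaf 17 3 [nat_lit 114, nat_lit 190, nat_lit 114])
(.node (nat_lit 3) (.leaf 33 0 [nat_lit 228, nat_lit 190, nat_lit 228, nat_lit 190, nat_lit 228])
(.node (nat_lit 4) (.leaf 45 6 [nat_lit 152, nat_lit 190, nat_lit 266, nat_lit 76, nat_lit 152, nat_lit 190, nat_lit 152, nat_lit 190, nat_lit 152])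
(.leaf 47 2 [nat_lit 38, nat_lit 190, nat_lit 152, nat_lit 190, nat_lit 0, nat_lit 190, nat_lit 0, nat_lit 152, nat_lit 38])))))
(.node (nat_lit 19) (.node (nat_lit 9) (.node (nat_lit 7) (.node (nat_lit 6) (.leaf 47 8 [nat_lit 0, nat_lit 152, nat_lit 38, nat_lit 190, nat_lit 38, nat_lit 190, nat_lit 152, nat_lit 190, nat_lit 0])
(.leaf 47 6 [nat_lit 0, nat_lit 190, nat_lit 0, nat_lit 152, nat_lit 38, nat_lit 190, nat_lit 38, nat_lit 190, nat_lit 152]))
(.node (nat_lit 8) (.leaf 55 9 [nat_lit 228, nat_lit 38, nat_lit 190, nat_lit 38, nat_lit 190, nat_lit 228, nat_lit 38, nat_lit 228, nat_lit 190, nat_lit 38])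
(.leaf 55 7 [nat_lit 38, nat_lit 190, nat_lit 228, nat_lit 38, nat_lit 190, nat_lit 38, nat_lit 190, nat_lit 228, nat_lit 38, nat_lit 228])))
(.node (nat_lit 12) (.node (nat_lit 10) (.leaf 45 4 [nat_lit 152, nat_lit 190, nat_lit 152, nat_lit 190, nat_lit 266, nat_lit 76, nat_lit 152, nat_lit 190, nat_lit 152])
(.node (nat_lit 11) (.leaf 55 1 [nat_lit 38, nat_lit 190, nat_lit 228, nat_lit 38, nat_lit 228, nat_lit 190, nat_lit 38, nat_lit 190, nat_lit 228, nat_lit 38])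
(.leaf 49 5 [nat_lit 152, nat_lit 0, nat_lit 152, nat_lit 0, nat_lit 190, nat_lit 38, nat_lit 152, nat_lit 38, nat_lit 152])))
(.node (nat_lit 15) (.node (nat_lit 13) (.leaf 47 4 [nat_lit 152, nat_lit 190, nat_lit 0, nat_lit 190, nat_lit 0, nat_lit 152, nat_lit 38, nat_lit 190, nat_lit 38])
(.node (nat_lit 14) (.leaf 49 0 [nat_lit 38, nat_lit 152, nat_lit 38, nat_lit 152, nat_lit 190, nat_lit 152, nat_lit 0, nat_lit 152, nat_lit 0])
(.leaf 45 2 [nat_lit 152, nat_lit 190, nat_lit 152, nat_lit 190, nat_lit 152, nat_lit 190, nat_lit 266, nat_lit 76, nat_lit 152])))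
(.node (nat_lit 16) (.leaf 45 8 [nat_lit 266, nat_lit 76, nat_lit 152, nat_lit 190, nat_lit 152, nat_lit 190, nat_lit 152, nat_lit 190, nat_lit 152])
(.node (nat_lit 17) (.leaf 55 3 [nat_lit 228, nat_lit 38, nat_lit 228, nat_lit 190, nat_lit 38, nat_lit 190, nat_lit 228, nat_lit 38, nat_lit 190, nat_lit 38])
(.node (nat_lit 18) (.leaf 51 18 [nat_lit 152, nat_lit 114, nat_lit 38, nat_lit 190, nat_lit 152, nat_lit 114, nat_lit 38, nat_lit 190, nat_lit 152, nat_lit 114, nat_lit 38, nat_lit 190, nat_lit 152, nat_lit 114, nat_lit 38, nat_lit 190, nat_lit 152, nat_lit 114, nat_lit 38])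
(.leaf 25 15 [nat_lit 152, nat_lit 190, nat_lit 152, nat_lit 190, nat_lit 152, nat_lit 190, nat_lit 152, nat_lit 190, nat_lit 152, nat_lit 190, nat_lit 152, nat_lit 190, nat_lit 152, nat_lit 190, nat_lit 152])))))))
(.leaf 0 0 [])))
noncomputable def wt6 : LT := (.node (nat_lit 3) (.node (nat_lit 1) (.node (nat_lit 0) (.leaf 9 3 [nat_lit 76, nat_lit 228, nat_lit 76])
(.leaf 27 3 [nat_lit 152, nat_lit 228, nat_lit 152]))
(.node (nat_lit 2) (.leaf 19 3 [nat_lit 114, nat_lit 228, nat_lit 114])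
(.leaf 33 5 [nat_lit 190, nat_lit 228, nat_lit 190, nat_lit 228, nat_lit 190])))
(.node (nat_lit 7) (.node (nat_lit 4) (.leaf 39 0 [nat_lit 266, nat_lit 228, nat_lit 266, nat_lit 228, nat_lit 266])
(.node (nat_lit 5) (.leaf 55 6 [nat_lit 190, nat_lit 38, nat_lit 190, nat_lit 228, nat_lit 38, nat_lit 190, nat_lit 38, nat_lit 190, nat_lit 228, nat_lit 38])
(.node (nat_lit 6) (.leaf 55 10 [nat_lit 38, nat_lit 190, nat_lit 38, nat_lit 190, nat_lit 228, nat_lit 38, nat_lit 228, nat_lit 190, nat_lit 38, nat_lit 190])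
(.leaf 55 4 [nat_lit 38, nat_lit 228, nat_lit 190, nat_lit 38, nat_lit 190, nat_lit 228, nat_lit 38, nat_lit 190, nat_lit 38, nat_lit 190]))))
(.leaf 0 0 [])))
noncomputable def wt7 : LT := (.node (nat_lit 2) (.node (nat_lit 0) (.leaf 11 3 [nat_lit 76, nat_lit 266, nat_lit 76])
(.node (nat_lit 1) (.leaf 35 3 [nat_lit 190, nat_lit 266, nat_lit 190])
(.leaf 29 3 [nat_lit 152, nat_lit 266, nat_lit 152])))
(.node (nat_lit 6) (.node (nat_lit 3) (.leaf 21 3 [nat_lit 114, nat_lit 266, nat_lit 114])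
(.node (nat_lit 4) (.leaf 43 3 [nat_lit 76, nat_lit 0, nat_lit 0])
(.node (nat_lit 5) (.leaf 39 5 [nat_lit 228, nat_lit 266, nat_lit 228, nat_lit 266, nat_lit 228])
(.leaf 45 9 [nat_lit 76, nat_lit 152, nat_lit 190, nat_lit 152, nat_lit 190, nat_lit 152, nat_lit 190, nat_lit 152, nat_lit 190]))))
(.leaf 0 0 [])))
noncomputable def wt8 : LT := (.node (nat_lit 166) (.node (nat_lit 27) (.node (nat_lit 7) (.node (nat_lit 2) (.node (nat_lit 0) (.leaf 43 0 [nat_lit 0, nat_lit 0, nat_lit 266, nat_lit 76])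
(.node (nat_lit 1) (.leaf 42 0 [nat_lit 76, nat_lit 266, nat_lit 38, nat_lit 38])
(.leaf 42 2 [nat_lit 38, nat_lit 38, nat_lit 76, nat_lit 266])))
(.node (nat_lit 4) (.node (nat_lit 3) (.leaf 55 4 [nat_lit 38, nat_lit 228, nat_lit 190, nat_lit 38, nat_lit 190, nat_lit 228, nat_lit 38, nat_lit 190, nat_lit 38, nat_lit 190, nat_lit 228])
(.leaf 52 3 [nat_lit 0, nat_lit 152, nat_lit 114, nat_lit 0, nat_lit 114, nat_lit 152, nat_lit 0, nat_lit 152, nat_lit 0, nat_lit 114, nat_lit 152]))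
(.node (nat_lit 5) (.leaf 54 3 [nat_lit 0, nat_lit 190, nat_lit 228, nat_lit 0, nat_lit 228, nat_lit 190, nat_lit 0, nat_lit 190, nat_lit 0, nat_lit 228, nat_lit 190])
(.node (nat_lit 6) (.leaf 53 4 [nat_lit 38, nat_lit 114, nat_lit 152, nat_lit 38, nat_lit 152, nat_lit 114, nat_lit 38, nat_lit 152, nat_lit 38, nat_lit 152, nat_lit 114])
(.leaf 43 2 [nat_lit 266, nat_lit 76, nat_lit 0, nat_lit 0])))))
(.node (nat_lit 15) (.node (nat_lit 10) (.node (nat_lit 8) (.leaf 54 6 [nat_lit 0, nat_lit 228, nat_lit 190, nat_lit 0, nat_lit 190, nat_lit 0, nat_lit 228, nat_lit 190, nat_lit 0, nat_lit 190, nat_lit 228])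
(.node (nat_lit 9) (.leaf 52 6 [nat_lit 0, nat_lit 114, nat_lit 152, nat_lit 0, nat_lit 152, nat_lit 0, nat_lit 114, nat_lit 152, nat_lit 0, nat_lit 152, nat_lit 114])
(.leaf 53 7 [nat_lit 38, nat_lit 152, nat_lit 114, nat_lit 38, nat_lit 152, nat_lit 38, nat_lit 152, nat_lit 114, nat_lit 38, nat_lit 114, nat_lit 152])))
(.node (nat_lit 12) (.node (nat_lit 11) (.leaf 53 5 [nat_lit 114, nat_lit 152, nat_lit 38, nat_lit 152, nat_lit 114, nat_lit 38, nat_lit 152, nat_lit 38, nat_lit 152, nat_lit 114, nat_lit 38])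
(.leaf 55 7 [nat_lit 38, nat_lit 190, nat_lit 228, nat_lit 38, nat_lit 190, nat_lit 38, nat_lit 190, nat_lit 228, nat_lit 38, nat_lit 228, nat_lit 190]))
(.node (nat_lit 13) (.leaf 47 2 [nat_lit 38, nat_lit 190, nat_lit 152, nat_lit 190, nat_lit 0, nat_lit 190, nat_lit 0, nat_lit 152, nat_lit 38, nat_lit 190])
(.node (nat_lit 14) (.leaf 53 8 [nat_lit 152, nat_lit 114, nat_lit 38, nat_lit 152, nat_lit 38, nat_lit 152, nat_lit 114, nat_lit 38, nat_lit 114, nat_lit 152, nat_lit 38])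
(.leaf 53 1 [nat_lit 38, nat_lit 152, nat_lit 114, nat_lit 38, nat_lit 114, nat_lit 152, nat_lit 38, nat_lit 152, nat_lit 114, nat_lit 38, nat_lit 152])))))
(.node (nat_lit 21) (.node (nat_lit 18) (.node (nat_lit 16) (.leaf 52 9 [nat_lit 0, nat_lit 152, nat_lit 0, nat_lit 114, nat_lit 152, nat_lit 0, nat_lit 152, nat_lit 114, nat_lit 0, nat_lit 114, nat_lit 152])
(.node (nat_lit 17) (.leaf 21 0 [nat_lit 266, nat_lit 114, nat_lit 266, nat_lit 114])
(.leaf 53 10 [nat_lit 38, nat_lit 152, nat_lit 38, nat_lit 152, nat_lit 114, nat_lit 38, nat_lit 114, nat_lit 152, nat_lit 38, nat_lit 152, nat_lit 114])))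
(.node (nat_lit 19) (.leaf 52 0 [nat_lit 0, nat_lit 114, nat_lit 152, nat_lit 0, nat_lit 152, nat_lit 114, nat_lit 0, nat_lit 114, nat_lit 152, nat_lit 0, nat_lit 152])
(.node (nat_lit 20) (.leaf 52 4 [nat_lit 152, nat_lit 114, nat_lit 0, nat_lit 114, nat_lit 152, nat_lit 0, nat_lit 152, nat_lit 0, nat_lit 114, nat_lit 152, nat_lit 0])
(.leaf 49 2 [nat_lit 38, nat_lit 152, nat_lit 190, nat_lit 152, nat_lit 0, nat_lit 152, nat_lit 0, nat_lit 190, nat_lit 38, nat_lit 152]))))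
(.node (nat_lit 24) (.node (nat_lit 22) (.leaf 53 0 [nat_lit 152, nat_lit 38, nat_lit 152, nat_lit 114, nat_lit 38, nat_lit 114, nat_lit 152, nat_lit 38, nat_lit 152, nat_lit 114, nat_lit 38])
(.node (nat_lit 23) (.leaf 55 10 [nat_lit 38, nat_lit 190, nat_lit 38, nat_lit 190, nat_lit 228, nat_lit 38, nat_lit 228, nat_lit 190, nat_lit 38, nat_lit 190, nat_lit 228])
(.leaf 43 1 [nat_lit 0, nat_lit 266, nat_lit 76, nat_lit 0])))
(.node (nat_lit 25) (.leaf 52 7 [nat_lit 114, nat_lit 152, nat_lit 0, nat_lit 152, nat_lit 0, nat_lit 114, nat_lit 152, nat_lit 0, nat_lit 152, nat_lit 114, nat_lit 0])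
(.node (nat_lit 26) (.leaf 42 3 [nat_lit 38, nat_lit 76, nat_lit 266, nat_lit 38])
(.leaf 9 3 [nat_lit 76, nat_lit 228, nat_lit 76, nat_lit 228])))))))
(.node (nat_lit 64) (.node (nat_lit 42) (.node (nat_lit 34) (.node (nat_lit 30) (.node (nat_lit 28) (.leaf 15 0 [nat_lit 152, nat_lit 114, nat_lit 152, nat_lit 114, nat_lit 152, nat_lit 114])
(.node (nat_lit 29) (.leaf 54 1 [nat_lit 228, nat_lit 190, nat_lit 0, nat_lit 190, nat_lit 228, nat_lit 0, nat_lit 228, nat_lit 190, nat_lit 0, nat_lit 190, nat_lit 0])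
(.leaf 54 4 [nat_lit 190, nat_lit 228, nat_lit 0, nat_lit 228, nat_lit 190, nat_lit 0, nat_lit 190, nat_lit 0, nat_lit 228, nat_lit 190, nat_lit 0])))
(.node (nat_lit 32) (.node (nat_lit 31) (.leaf 7 3 [nat_lit 76, nat_lit 190, nat_lit 76, nat_lit 190])
(.leaf 55 1 [nat_lit 38, nat_lit 190, nat_lit 228, nat_lit 38, nat_lit 228, nat_lit 190, nat_lit 38, nat_lit 190, nat_lit 228, nat_lit 38, nat_lit 190]))
(.node (nat_lit 33) (.leaf 54 0 [nat_lit 0, nat_lit 228, nat_lit 190, nat_lit 0, nat_lit 190, nat_lit 228, nat_lit 0, nat_lit 228, nat_lit 190, nat_lit 0, nat_lit 190])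
(.leaf 17 0 [nat_lit 190, nat_lit 114, nat_lit 190, nat_lit 114]))))
(.node (nat_lit 38) (.node (nat_lit 36) (.node (nat_lit 35) (.leaf 21 3 [nat_lit 114, nat_lit 266, nat_lit 114, nat_lit 266])
(.leaf 49 6 [nat_lit 0, nat_lit 152, nat_lit 0, nat_lit 190, nat_lit 38, nat_lit 152, nat_lit 38, nat_lit 152, nat_lit 190, nat_lit 152]))
(.node (nat_lit 37) (.leaf 53 2 [nat_lit 152, nat_lit 114, nat_lit 38, nat_lit 114, nat_lit 152, nat_lit 38, nat_lit 152, nat_lit 114, nat_lit 38, nat_lit 152, nat_lit 38])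
(.leaf 55 5 [nat_lit 228, nat_lit 190, nat_lit 38, nat_lit 190, nat_lit 228, nat_lit 38, nat_lit 190, nat_lit 38, nat_lit 190, nat_lit 228, nat_lit 38])))
(.node (nat_lit 40) (.node (nat_lit 39) (.leaf 16 0 [nat_lit 114, nat_lit 190, nat_lit 114, nat_lit 190])
(.leaf 47 7 [nat_lit 190, nat_lit 0, nat_lit 152, nat_lit 38, nat_lit 190, nat_lit 38, nat_lit 190, nat_lit 152, nat_lit 190, nat_lit 0]))
(.node (nat_lit 41) (.leaf 52 10 [nat_lit 152, nat_lit 0, nat_lit 114, nat_lit 152, nat_lit 0, nat_lit 152, nat_lit 114, nat_lit 0, nat_lit 114, nat_lit 152, nat_lit 0])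
(.leaf 2 1 [nat_lit 114, nat_lit 76, nat_lit 114, nat_lit 76, nat_lit 114, nat_lit 76])))))
(.node (nat_lit 52) (.node (nat_lit 47) (.node (nat_lit 44) (.node (nat_lit 43) (.leaf 16 1 [nat_lit 190, nat_lit 114, nat_lit 190, nat_lit 114])
(.leaf 6 0 [nat_lit 76, nat_lit 190, nat_lit 76, nat_lit 190]))
(.node (nat_lit 45) (.leaf 47 8 [nat_lit 0, nat_lit 152, nat_lit 38, nat_lit 190, nat_lit 38, nat_lit 190, nat_lit 152, nat_lit 190, nat_lit 0, nat_lit 190])
(.node (nat_lit 46) (.leaf 3 5 [nat_lit 76, nat_lit 114, nat_lit 76, nat_lit 114, nat_lit 76, nat_lit 114])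
(.leaf 29 0 [nat_lit 266, nat_lit 152, nat_lit 266, nat_lit 152]))))
(.node (nat_lit 49) (.node (nat_lit 48) (.leaf 54 7 [nat_lit 228, nat_lit 190, nat_lit 0, nat_lit 190, nat_lit 0, nat_lit 228, nat_lit 190, nat_lit 0, nat_lit 190, nat_lit 228, nat_lit 0])
(.leaf 17 3 [nat_lit 114, nat_lit 190, nat_lit 114, nat_lit 190]))
(.node (nat_lit 50) (.leaf 26 0 [nat_lit 152, nat_lit 228, nat_lit 152, nat_lit 228])
(.node (nat_lit 51) (.leaf 28 0 [nat_lit 152, nat_lit 266, nat_lit 152, nat_lit 266])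
(.leaf 5 3 [nat_lit 76, nat_lit 152, nat_lit 76, nat_lit 152])))))
(.node (nat_lit 58) (.node (nat_lit 55) (.node (nat_lit 53) (.leaf 15 5 [nat_lit 114, nat_lit 152, nat_lit 114, nat_lit 152, nat_lit 114, nat_lit 152])
(.node (nat_lit 54) (.leaf 8 1 [nat_lit 228, nat_lit 76, nat_lit 228, nat_lit 76])
(.leaf 46 8 [nat_lit 190, nat_lit 0, nat_lit 152, nat_lit 38, nat_lit 190, nat_lit 38, nat_lit 190, nat_lit 152, nat_lit 190, nat_lit 0])))
(.node (nat_lit 56) (.leaf 4 1 [nat_lit 152, nat_lit 76, nat_lit 152, nat_lit 76])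
(.node (nat_lit 57) (.leaf 20 1 [nat_lit 266, nat_lit 114, nat_lit 266, nat_lit 114])
(.leaf 55 8 [nat_lit 190, nat_lit 228, nat_lit 38, nat_lit 190, nat_lit 38, nat_lit 190, nat_lit 228, nat_lit 38, nat_lit 228, nat_lit 190, nat_lit 38]))))
(.node (nat_lit 61) (.node (nat_lit 59) (.leaf 18 1 [nat_lit 228, nat_lit 114, nat_lit 228, nat_lit 114])
(.node (nat_lit 60) (.leaf 14 0 [nat_lit 114, nat_lit 152, nat_lit 114, nat_lit 152, nat_lit 114, nat_lit 152])
(.leaf 51 0 [nat_lit 38, nat_lit 190, nat_lit 152, nat_lit 114, nat_lit 38, nat_lit 190, nat_lit 152, nat_lit 114, nat_lit 38, nat_lit 190, nat_lit 152, nat_lit 114, nat_lit 38, nat_lit 190, nat_lit 152, nat_lit 114, nat_lit 38, nat_lit 190, nat_lit 152, nat_lit 114])))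
(.node (nat_lit 62) (.leaf 6 1 [nat_lit 190, nat_lit 76, nat_lit 190, nat_lit 76])
(.node (nat_lit 63) (.leaf 46 3 [nat_lit 38, nat_lit 190, nat_lit 152, nat_lit 190, nat_lit 0, nat_lit 190, nat_lit 0, nat_lit 152, nat_lit 38, nat_lit 190])
(.leaf 46 2 [nat_lit 190, nat_lit 38, nat_lit 190, nat_lit 152, nat_lit 190, nat_lit 0, nat_lit 190, nat_lit 0, nat_lit 152, nat_lit 38])))))))
(.node (nat_lit 94) (.node (nat_lit 78) (.node (nat_lit 71) (.node (nat_lit 67) (.node (nat_lit 65) (.leaf 54 10 [nat_lit 190, nat_lit 0, nat_lit 228, nat_lit 190, nat_lit 0, nat_lit 190, nat_lit 228, nat_lit 0, nat_lit 228, nat_lit 190, nat_lit 0])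
(.node (nat_lit 66) (.leaf 53 6 [nat_lit 152, nat_lit 38, nat_lit 152, nat_lit 114, nat_lit 38, nat_lit 152, nat_lit 38, nat_lit 152, nat_lit 114, nat_lit 38, nat_lit 114])
(.leaf 46 9 [nat_lit 0, nat_lit 152, nat_lit 38, nat_lit 190, nat_lit 38, nat_lit 190, nat_lit 152, nat_lit 190, nat_lit 0, nat_lit 190])))
(.node (nat_lit 69) (.node (nat_lit 68) (.leaf 35 0 [nat_lit 266, nat_lit 190, nat_lit 266, nat_lit 190])
(.leaf 19 0 [nat_lit 228, nat_lit 114, nat_lit 228, nat_lit 114]))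
(.node (nat_lit 70) (.leaf 52 5 [nat_lit 114, nat_lit 0, nat_lit 114, nat_lit 152, nat_lit 0, nat_lit 152, nat_lit 0, nat_lit 114, nat_lit 152, nat_lit 0, nat_lit 152])
(.leaf 39 0 [nat_lit 266, nat_lit 228, nat_lit 266, nat_lit 228, nat_lit 266, nat_lit 228]))))
(.node (nat_lit 74) (.node (nat_lit 72) (.leaf 29 3 [nat_lit 152, nat_lit 266, nat_lit 152, nat_lit 266])
(.node (nat_lit 73) (.leaf 47 6 [nat_lit 0, nat_lit 190, nat_lit 0, nat_lit 152, nat_lit 38, nat_lit 190, nat_lit 38, nat_lit 190, nat_lit 152, nat_lit 190])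
(.leaf 35 3 [nat_lit 190, nat_lit 266, nat_lit 190, nat_lit 266])))
(.node (nat_lit 76) (.node (nat_lit 75) (.leaf 28 1 [nat_lit 266, nat_lit 152, nat_lit 266, nat_lit 152])
(.leaf 7 0 [nat_lit 190, nat_lit 76, nat_lit 190, nat_lit 76]))
(.node (nat_lit 77) (.leaf 48 4 [nat_lit 152, nat_lit 190, nat_lit 152, nat_lit 0, nat_lit 152, nat_lit 0, nat_lit 190, nat_lit 38, nat_lit 152, nat_lit 38])
(.leaf 46 0 [nat_lit 152, nat_lit 38, nat_lit 190, nat_lit 38, nat_lit 190, nat_lit 152, nat_lit 190, nat_lit 0, nat_lit 190, nat_lit 0])))))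
(.node (nat_lit 86) (.node (nat_lit 82) (.node (nat_lit 80) (.node (nat_lit 79) (.leaf 54 9 [nat_lit 0, nat_lit 190, nat_lit 0, nat_lit 228, nat_lit 190, nat_lit 0, nat_lit 190, nat_lit 228, nat_lit 0, nat_lit 228, nat_lit 190])
(.leaf 33 0 [nat_lit 228, nat_lit 190, nat_lit 228, nat_lit 190, nat_lit 228, nat_lit 190]))
(.node (nat_lit 81) (.leaf 18 0 [nat_lit 114, nat_lit 228, nat_lit 114, nat_lit 228])
(.leaf 14 1 [nat_lit 152, nat_lit 114, nat_lit 152, nat_lit 114, nat_lit 152, nat_lit 114])))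
(.node (nat_lit 84) (.node (nat_lit 83) (.leaf 47 3 [nat_lit 190, nat_lit 152, nat_lit 190, nat_lit 0, nat_lit 190, nat_lit 0, nat_lit 152, nat_lit 38, nat_lit 190, nat_lit 38])
(.leaf 4 0 [nat_lit 76, nat_lit 152, nat_lit 76, nat_lit 152]))
(.node (nat_lit 85) (.leaf 34 1 [nat_lit 266, nat_lit 190, nat_lit 266, nat_lit 190])
(.leaf 55 0 [nat_lit 190, nat_lit 38, nat_lit 190, nat_lit 228, nat_lit 38, nat_lit 228, nat_lit 190, nat_lit 38, nat_lit 190, nat_lit 228, nat_lit 38]))))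
(.node (nat_lit 90) (.node (nat_lit 88) (.node (nat_lit 87) (.leaf 20 0 [nat_lit 114, nat_lit 266, nat_lit 114, nat_lit 266])
(.leaf 47 4 [nat_lit 152, nat_lit 190, nat_lit 0, nat_lit 190, nat_lit 0, nat_lit 152, nat_lit 38, nat_lit 190, nat_lit 38, nat_lit 190]))
(.node (nat_lit 89) (.leaf 54 5 [nat_lit 228, nat_lit 0, nat_lit 228, nat_lit 190, nat_lit 0, nat_lit 190, nat_lit 0, nat_lit 228, nat_lit 190, nat_lit 0, nat_lit 190])
(.leaf 54 8 [nat_lit 190, nat_lit 0, nat_lit 190, nat_lit 0, nat_lit 228, nat_lit 190, nat_lit 0, nat_lit 190, nat_lit 228, nat_lit 0, nat_lit 228])))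
(.node (nat_lit 92) (.node (nat_lit 91) (.leaf 27 0 [nat_lit 228, nat_lit 152, nat_lit 228, nat_lit 152])
(.leaf 46 1 [nat_lit 38, nat_lit 190, nat_lit 38, nat_lit 190, nat_lit 152, nat_lit 190, nat_lit 0, nat_lit 190, nat_lit 0, nat_lit 152]))
(.node (nat_lit 93) (.leaf 34 0 [nat_lit 190, nat_lit 266, nat_lit 190, nat_lit 266])
(.leaf 8 0 [nat_lit 76, nat_lit 228, nat_lit 76, nat_lit 228]))))))
(.node (nat_lit 115) (.node (nat_lit 103) (.node (nat_lit 98) (.node (nat_lit 96) (.node (nat_lit 95) (.leaf 38 0 [nat_lit 228, nat_lit 266, nat_lit 228, nat_lit 266, nat_lit 228, nat_lit 266])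
(.leaf 48 2 [nat_lit 152, nat_lit 38, nat_lit 152, nat_lit 190, nat_lit 152, nat_lit 0, nat_lit 152, nat_lit 0, nat_lit 190, nat_lit 38]))
(.node (nat_lit 97) (.leaf 54 2 [nat_lit 190, nat_lit 0, nat_lit 190, nat_lit 228, nat_lit 0, nat_lit 228, nat_lit 190, nat_lit 0, nat_lit 190, nat_lit 0, nat_lit 228])
(.leaf 48 3 [nat_lit 38, nat_lit 152, nat_lit 190, nat_lit 152, nat_lit 0, nat_lit 152, nat_lit 0, nat_lit 190, nat_lit 38, nat_lit 152])))
(.node (nat_lit 100) (.node (nat_lit 99) (.leaf 48 8 [nat_lit 152, nat_lit 0, nat_lit 190, nat_lit 38, nat_lit 152, nat_lit 38, nat_lit 152, nat_lit 190, nat_lit 152, nat_lit 0])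
(.leaf 47 5 [nat_lit 190, nat_lit 0, nat_lit 190, nat_lit 0, nat_lit 152, nat_lit 38, nat_lit 190, nat_lit 38, nat_lit 190, nat_lit 152]))
(.node (nat_lit 101) (.leaf 48 7 [nat_lit 0, nat_lit 152, nat_lit 0, nat_lit 190, nat_lit 38, nat_lit 152, nat_lit 38, nat_lit 152, nat_lit 190, nat_lit 152])
(.node (nat_lit 102) (.leaf 32 0 [nat_lit 190, nat_lit 228, nat_lit 190, nat_lit 228, nat_lit 190, nat_lit 228])
(.leaf 33 5 [nat_lit 190, nat_lit 228, nat_lit 190, nat_lit 228, nat_lit 190, nat_lit 228])))))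
(.node (nat_lit 108) (.node (nat_lit 105) (.node (nat_lit 104) (.leaf 19 3 [nat_lit 114, nat_lit 228, nat_lit 114, nat_lit 228])
(.leaf 55 6 [nat_lit 190, nat_lit 38, nat_lit 190, nat_lit 228, nat_lit 38, nat_lit 190, nat_lit 38, nat_lit 190, nat_lit 228, nat_lit 38, nat_lit 228]))
(.node (nat_lit 106) (.leaf 48 1 [nat_lit 38, nat_lit 152, nat_lit 38, nat_lit 152, nat_lit 190, nat_lit 152, nat_lit 0, nat_lit 152, nat_lit 0, nat_lit 190])
(.node (nat_lit 107) (.leaf 39 5 [nat_lit 228, nat_lit 266, nat_lit 228, nat_lit 266, nat_lit 228, nat_lit 266])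
(.leaf 49 3 [nat_lit 152, nat_lit 190, nat_lit 152, nat_lit 0, nat_lit 152, nat_lit 0, nat_lit 190, nat_lit 38, nat_lit 152, nat_lit 38]))))
(.node (nat_lit 111) (.node (nat_lit 109) (.leaf 52 1 [nat_lit 114, nat_lit 152, nat_lit 0, nat_lit 152, nat_lit 114, nat_lit 0, nat_lit 114, nat_lit 152, nat_lit 0, nat_lit 152, nat_lit 0])
(.node (nat_lit 110) (.leaf 49 5 [nat_lit 152, nat_lit 0, nat_lit 152, nat_lit 0, nat_lit 190, nat_lit 38, nat_lit 152, nat_lit 38, nat_lit 152, nat_lit 190])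
(.leaf 49 8 [nat_lit 0, nat_lit 190, nat_lit 38, nat_lit 152, nat_lit 38, nat_lit 152, nat_lit 190, nat_lit 152, nat_lit 0, nat_lit 152])))
(.node (nat_lit 113) (.node (nat_lit 112) (.leaf 3 0 [nat_lit 114, nat_lit 76, nat_lit 114, nat_lit 76, nat_lit 114, nat_lit 76])
(.leaf 47 1 [nat_lit 190, nat_lit 38, nat_lit 190, nat_lit 152, nat_lit 190, nat_lit 0, nat_lit 190, nat_lit 0, nat_lit 152, nat_lit 38]))
(.node (nat_lit 114) (.leaf 55 9 [nat_lit 228, nat_lit 38, nat_lit 190, nat_lit 38, nat_lit 190, nat_lit 228, nat_lit 38, nat_lit 228, nat_lit 190, nat_lit 38, nat_lit 190])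
(.leaf 46 7 [nat_lit 0, nat_lit 190, nat_lit 0, nat_lit 152, nat_lit 38, nat_lit 190, nat_lit 38, nat_lit 190, nat_lit 152, nat_lit 190]))))))
(.node (nat_lit 131) (.node (nat_lit 123) (.node (nat_lit 119) (.node (nat_lit 117) (.node (nat_lit 116) (.leaf 55 2 [nat_lit 190, nat_lit 228, nat_lit 38, nat_lit 228, nat_lit 190, nat_lit 38, nat_lit 190, nat_lit 228, nat_lit 38, nat_lit 190, nat_lit 38])
(.leaf 26 1 [nat_lit 228, nat_lit 152, nat_lit 228, nat_lit 152]))
(.node (nat_lit 118) (.leaf 32 1 [nat_lit 228, nat_lit 190, nat_lit 228, nat_lit 190, nat_lit 228, nat_lit 190])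
(.leaf 46 5 [nat_lit 152, nat_lit 190, nat_lit 0, nat_lit 190, nat_lit 0, nat_lit 152, nat_lit 38, nat_lit 190, nat_lit 38, nat_lit 190])))
(.node (nat_lit 121) (.node (nat_lit 120) (.leaf 38 1 [nat_lit 266, nat_lit 228, nat_lit 266, nat_lit 228, nat_lit 266, nat_lit 228])
(.leaf 5 0 [nat_lit 152, nat_lit 76, nat_lit 152, nat_lit 76]))
(.node (nat_lit 122) (.leaf 46 4 [nat_lit 190, nat_lit 152, nat_lit 190, nat_lit 0, nat_lit 190, nat_lit 0, nat_lit 152, nat_lit 38, nat_lit 190, nat_lit 38])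
(.leaf 49 0 [nat_lit 38, nat_lit 152, nat_lit 38, nat_lit 152, nat_lit 190, nat_lit 152, nat_lit 0, nat_lit 152, nat_lit 0, nat_lit 190]))))
(.node (nat_lit 127) (.node (nat_lit 125) (.node (nat_lit 124) (.leaf 48 0 [nat_lit 190, nat_lit 38, nat_lit 152, nat_lit 38, nat_lit 152, nat_lit 190, nat_lit 152, nat_lit 0, nat_lit 152, nat_lit 0])
(.leaf 49 7 [nat_lit 152, nat_lit 0, nat_lit 190, nat_lit 38, nat_lit 152, nat_lit 38, nat_lit 152, nat_lit 190, nat_lit 152, nat_lit 0]))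
(.node (nat_lit 126) (.leaf 27 3 [nat_lit 152, nat_lit 228, nat_lit 152, nat_lit 228])
(.leaf 45 4 [nat_lit 152, nat_lit 190, nat_lit 152, nat_lit 190, nat_lit 266, nat_lit 76, nat_lit 152, nat_lit 190, nat_lit 152, nat_lit 190])))
(.node (nat_lit 129) (.node (nat_lit 128) (.leaf 50 3 [nat_lit 0, nat_lit 114, nat_lit 152, nat_lit 190, nat_lit 0, nat_lit 114, nat_lit 152, nat_lit 190, nat_lit 0, nat_lit 114, nat_lit 152, nat_lit 190, nat_lit 0, nat_lit 114, nat_lit 152, nat_lit 190, nat_lit 0, nat_lit 114, nat_lit 152, nat_lit 190])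
(.leaf 44 6 [nat_lit 190, nat_lit 152, nat_lit 190, nat_lit 152, nat_lit 76, nat_lit 266, nat_lit 190, nat_lit 152, nat_lit 190, nat_lit 152]))
(.node (nat_lit 130) (.leaf 45 7 [nat_lit 190, nat_lit 266, nat_lit 76, nat_lit 152, nat_lit 190, nat_lit 152, nat_lit 190, nat_lit 152, nat_lit 190, nat_lit 152])
(.leaf 48 9 [nat_lit 0, nat_lit 190, nat_lit 38, nat_lit 152, nat_lit 38, nat_lit 152, nat_lit 190, nat_lit 152, nat_lit 0, nat_lit 152])))))
(.node (nat_lit 143) (.node (nat_lit 137) (.node (nat_lit 134) (.node (nat_lit 132) (.leaf 53 3 [nat_lit 114, nat_lit 38, nat_lit 114, nat_lit 152, nat_lit 38, nat_lit 152, nat_lit 114, nat_lit 38, nat_lit 152, nat_lit 38, nat_lit 152])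
(.node (nat_lit 133) (.leaf 10 1 [nat_lit 266, nat_lit 76, nat_lit 266, nat_lit 76])
(.leaf 45 2 [nat_lit 152, nat_lit 190, nat_lit 152, nat_lit 190, nat_lit 152, nat_lit 190, nat_lit 266, nat_lit 76, nat_lit 152, nat_lit 190])))
(.node (nat_lit 135) (.leaf 49 9 [nat_lit 190, nat_lit 38, nat_lit 152, nat_lit 38, nat_lit 152, nat_lit 190, nat_lit 152, nat_lit 0, nat_lit 152, nat_lit 0])
(.node (nat_lit 136) (.leaf 53 9 [nat_lit 114, nat_lit 38, nat_lit 152, nat_lit 38, nat_lit 152, nat_lit 114, nat_lit 38, nat_lit 114, nat_lit 152, nat_lit 38, nat_lit 152])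
(.leaf 47 0 [nat_lit 38, nat_lit 190, nat_lit 38, nat_lit 190, nat_lit 152, nat_lit 190, nat_lit 0, nat_lit 190, nat_lit 0, nat_lit 152]))))
(.node (nat_lit 140) (.node (nat_lit 138) (.leaf 52 8 [nat_lit 152, nat_lit 0, nat_lit 152, nat_lit 0, nat_lit 114, nat_lit 152, nat_lit 0, nat_lit 152, nat_lit 114, nat_lit 0, nat_lit 114])
(.node (nat_lit 139) (.leaf 49 1 [nat_lit 152, nat_lit 38, nat_lit 152, nat_lit 190, nat_lit 152, nat_lit 0, nat_lit 152, nat_lit 0, nat_lit 190, nat_lit 38])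
(.leaf 47 9 [nat_lit 152, nat_lit 38, nat_lit 190, nat_lit 38, nat_lit 190, nat_lit 152, nat_lit 190, nat_lit 0, nat_lit 190, nat_lit 0])))
(.node (nat_lit 141) (.leaf 46 6 [nat_lit 190, nat_lit 0, nat_lit 190, nat_lit 0, nat_lit 152, nat_lit 38, nat_lit 190, nat_lit 38, nat_lit 190, nat_lit 152])
(.node (nat_lit 142) (.leaf 45 5 [nat_lit 190, nat_lit 152, nat_lit 190, nat_lit 266, nat_lit 76, nat_lit 152, nat_lit 190, nat_lit 152, nat_lit 190, nat_lit 152])
(.leaf 44 7 [nat_lit 152, nat_lit 190, nat_lit 152, nat_lit 76, nat_lit 266, nat_lit 190, nat_lit 152, nat_lit 190, nat_lit 152, nat_lit 190])))))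
(.node (nat_lit 151) (.node (nat_lit 147) (.node (nat_lit 145) (.node (nat_lit 144) (.leaf 45 0 [nat_lit 152, nat_lit 190, nat_lit 152, nat_lit 190, nat_lit 152, nat_lit 190, nat_lit 152, nat_lit 190, nat_lit 266, nat_lit 76])
(.leaf 9 0 [nat_lit 228, nat_lit 76, nat_lit 228, nat_lit 76]))
(.node (nat_lit 146) (.leaf 2 0 [nat_lit 76, nat_lit 114, nat_lit 76, nat_lit 114, nat_lit 76, nat_lit 114])
(.leaf 49 4 [nat_lit 190, nat_lit 152, nat_lit 0, nat_lit 152, nat_lit 0, nat_lit 190, nat_lit 38, nat_lit 152, nat_lit 38, nat_lit 152])))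
(.node (nat_lit 149) (.node (nat_lit 148) (.leaf 50 0 [nat_lit 114, nat_lit 152, nat_lit 190, nat_lit 0, nat_lit 114, nat_lit 152, nat_lit 190, nat_lit 0, nat_lit 114, nat_lit 152, nat_lit 190, nat_lit 0, nat_lit 114, nat_lit 152, nat_lit 190, nat_lit 0, nat_lit 114, nat_lit 152, nat_lit 190, nat_lit 0])
(.leaf 55 3 [nat_lit 228, nat_lit 38, nat_lit 228, nat_lit 190, nat_lit 38, nat_lit 190, nat_lit 228, nat_lit 38, nat_lit 190, nat_lit 38, nat_lit 190]))
(.node (nat_lit 150) (.leaf 45 1 [nat_lit 190, nat_lit 152, nat_lit 190, nat_lit 152, nat_lit 190, nat_lit 152, nat_lit 190, nat_lit 266, nat_lit 76, nat_lit 152])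
(.leaf 45 6 [nat_lit 152, nat_lit 190, nat_lit 266, nat_lit 76, nat_lit 152, nat_lit 190, nat_lit 152, nat_lit 190, nat_lit 152, nat_lit 190]))))
(.node (nat_lit 157) (.node (nat_lit 153) (.node (nat_lit 152) (.leaf 45 3 [nat_lit 190, nat_lit 152, nat_lit 190, nat_lit 152, nat_lit 190, nat_lit 266, nat_lit 76, nat_lit 152, nat_lit 190, nat_lit 152])
(.leaf 44 9 [nat_lit 152, nat_lit 76, nat_lit 266, nat_lit 190, nat_lit 152, nat_lit 190, nat_lit 152, nat_lit 190, nat_lit 152, nat_lit 190]))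
(.node (nat_lit 155) (.node (nat_lit 154) (.leaf 52 2 [nat_lit 152, nat_lit 0, nat_lit 152, nat_lit 114, nat_lit 0, nat_lit 114, nat_lit 152, nat_lit 0, nat_lit 152, nat_lit 0, nat_lit 114])
(.leaf 45 8 [nat_lit 266, nat_lit 76, nat_lit 152, nat_lit 190, nat_lit 152, nat_lit 190, nat_lit 152, nat_lit 190, nat_lit 152, nat_lit 190]))
(.node (nat_lit 156) (.leaf 51 17 [nat_lit 190, nat_lit 152, nat_lit 114, nat_lit 38, nat_lit 190, nat_lit 152, nat_lit 114, nat_lit 38, nat_lit 190, nat_lit 152, nat_lit 114, nat_lit 38, nat_lit 190, nat_lit 152, nat_lit 114, nat_lit 38, nat_lit 190, nat_lit 152, nat_lit 114, nat_lit 38])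
(.leaf 10 0 [nat_lit 76, nat_lit 266, nat_lit 76, nat_lit 266]))))
(.node (nat_lit 161) (.node (nat_lit 159) (.node (nat_lit 158) (.leaf 24 0 [nat_lit 152, nat_lit 190, nat_lit 152, nat_lit 190, nat_lit 152, nat_lit 190, nat_lit 152, nat_lit 190, nat_lit 152, nat_lit 190, nat_lit 152, nat_lit 190, nat_lit 152, nat_lit 190, nat_lit 152, nat_lit 190])
(.leaf 44 4 [nat_lit 190, nat_lit 152, nat_lit 190, nat_lit 152, nat_lit 190, nat_lit 152, nat_lit 76, nat_lit 266, nat_lit 190, nat_lit 152]))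
(.node (nat_lit 160) (.leaf 43 3 [nat_lit 76, nat_lit 0, nat_lit 0, nat_lit 266])
(.leaf 48 6 [nat_lit 152, nat_lit 0, nat_lit 152, nat_lit 0, nat_lit 190, nat_lit 38, nat_lit 152, nat_lit 38, nat_lit 152, nat_lit 190])))
(.node (nat_lit 163) (.node (nat_lit 162) (.leaf 50 2 [nat_lit 190, nat_lit 0, nat_lit 114, nat_lit 152, nat_lit 190, nat_lit 0, nat_lit 114, nat_lit 152, nat_lit 190, nat_lit 0, nat_lit 114, nat_lit 152, nat_lit 190, nat_lit 0, nat_lit 114, nat_lit 152, nat_lit 190, nat_lit 0, nat_lit 114, nat_lit 152])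
(.leaf 42 1 [nat_lit 266, nat_lit 38, nat_lit 38, nat_lit 76]))
(.node (nat_lit 164) (.leaf 44 2 [nat_lit 190, nat_lit 152, nat_lit 190, nat_lit 152, nat_lit 190, nat_lit 152, nat_lit 190, nat_lit 152, nat_lit 76, nat_lit 266])
(.node (nat_lit 165) (.leaf 45 9 [nat_lit 76, nat_lit 152, nat_lit 190, nat_lit 152, nat_lit 190, nat_lit 152, nat_lit 190, nat_lit 152, nat_lit 190, nat_lit 266])
(.leaf 50 1 [nat_lit 152, nat_lit 190, nat_lit 0, nat_lit 114, nat_lit 152, nat_lit 190, nat_lit 0, nat_lit 114, nat_lit 152, nat_lit 190, nat_lit 0, nat_lit 114, nat_lit 152, nat_lit 190, nat_lit 0, nat_lit 114, nat_lit 152, nat_lit 190, nat_lit 0, nat_lit 114])))))))))))))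
(.leaf 0 0 []))
noncomputable def sl : List (ℕ × ℕ × List ℕ × List ℕ) := [(0, nat_lit 76, [], []),
(2, nat_lit 114, [], []),
(4, nat_lit 152, [], []),
(6, nat_lit 190, [], []),
(8, nat_lit 228, [], [])]
/-- the inverse column -/
noncomputable def icol (x : ℕ) : ℕ := List.getD [nat_lit 1, nat_lit 0, nat_lit 2, nat_lit 3, nat_lit 4, nat_lit 5, nat_lit 6, nat_lit 7] x x
noncomputable def inv (x : ℕ) : ℕ := Nat.mul (icol (Nat.div x (nat_lit 38))) (nat_lit 38)
def cols : List ℕ := [nat_lit 304, nat_lit 0, nat_lit 38, nat_lit 76, nat_lit 114, nat_lit 152, nat_lit 190, nat_lit 228, nat_lit 266]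
noncomputable def cl : CL := (.cons (nat_lit 0) (nat_lit 38) (nat_lit 0) (nat_lit 0) wt0
(.cons (nat_lit 38) (nat_lit 0) (nat_lit 33) (nat_lit 1919) wt1
(.cons (nat_lit 76) (nat_lit 76) (nat_lit 66) (nat_lit 3838) wt2
(.cons (nat_lit 114) (nat_lit 114) (nat_lit 99) (nat_lit 5757) wt3
(.cons (nat_lit 152) (nat_lit 152) (nat_lit 132) (nat_lit 7676) wt4
(.cons (nat_lit 190) (nat_lit 190) (nat_lit 165) (nat_lit 9595) wt5
(.cons (nat_lit 228) (nat_lit 228) (nat_lit 198) (nat_lit 11514) wt6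
(.cons (nat_lit 266) (nat_lit 266) (nat_lit 231) (nat_lit 13433) wt7
.nil))))))))
def rels : List (List ℕ) := [[2, 2],
[2, 3, 2, 3, 2, 3],
[2, 4, 2, 4],
[2, 5, 2, 5],
[2, 6, 2, 6],
[2, 7, 2, 7],
[3, 3],
[3, 4, 3, 4, 3, 4],
[3, 5, 3, 5],
[3, 6, 3, 6],
[3, 7, 3, 7],
[4, 4],
[4, 5, 4, 5, 4, 5, 4, 5, 4, 5, 4, 5, 4, 5, 4, 5],
[4, 6, 4, 6],
[4, 7, 4, 7],
[5, 5],
[5, 6, 5, 6, 5, 6],
[5, 7, 5, 7],
[6, 6],
[6, 7, 6, 7, 6, 7],
[7, 7],
[2, 7, 1, 1],
[2, 7, 5, 4, 5, 4, 5, 4, 5, 4],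
[4, 1, 5, 1, 5, 4, 5, 0, 5, 0],
[5, 1, 4, 1, 4, 5, 4, 0, 4, 0],
[3, 4, 5, 0, 3, 4, 5, 0, 3, 4, 5, 0, 3, 4, 5, 0, 3, 4, 5, 0],
[0, 3, 4, 0, 4, 3, 0, 3, 4, 0, 4],
[0, 6, 5, 0, 5, 6, 0, 6, 5, 0, 5]]
def subs : List (List ℕ) := [[2],
[3],
[4],
[5],
[6],
[7]]
noncomputable def chk : ℕ → Bool := rowChk row jrow fget sl cols (nat_lit 122760) (nat_lit 135087) (nat_lit 274877906943) (nat_lit 262143) (nat_lit 274877906944) (nat_lit 304) (nat_lit 342) (nat_lit 8589934591) (nat_lit 6) (nat_lit 63) (nat_lit 17) (nat_lit 131071) cl (nat_lit 264) wt8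
end H18.ONTC
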