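import Cfsg.Agent.Lib.CosetEnum.Pres
import Cfsg.Agent.Lib.ON.TC.Tab
set_option autoImplicit false
set_option maxRecDepth 100000
namespace H18.ONTC
open H54 (Tr force band)
open H18.TC
theorem p6 : allB chk 13 49152 = true := by decide +kernel
theorem p7 : allB chk 13 57344 = true := by decide +kernel
theorem p8 : allB chk 13 65536 = true := by decide +kernel
theorem p9 : allB chk 13 73728 = true := by decide +kernel
theorem p10 : allB chk 13 81920 = true := by decide +kernel
theorem p11 : allB chk 13 90112 = true := by decide +kernel
end H18.ONTC
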